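import Mathlib

/-!
Inducing a module from a normal subgroup `N`, with a second normal subgroup acting trivially.
-/

set_option autoImplicit false

namespace CfsgLib.PrimeGraphBdd

universe u

variable {L : Type u} [Group L] {W : Type u} [CommGroup W] (ρ : L →* MulAut W) (N B : Subgroup L)

/-- The induced module. -/
def induced : Subgroup (L → W) where
  carrier := {f | ∀ g : L, (∀ n ∈ N, f (n * g) = ρ n (f g)) ∧ ∀ b ∈ B, f (b * g) = f g}
  one_mem' := fun g => ⟨fun n _ => (map_one (ρ n)).symm, fun _ _ => rfl⟩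
  mul_mem' := fun {a c} ha hc g => ⟨fun n hn => by
      show a (n * g) * c (n * g) = ρ n (a g * c g)
      rw [(ha g).1 n hn, (hc g).1 n hn, map_mul],
    fun b hb => by
      show a (b * g) * c (b * g) = a g * c g
      rw [(ha g).2 b hb, (hc g).2 b hb]⟩
  inv_mem' := fun {a} ha g => ⟨fun n hn => by
      show (a (n * g))⁻¹ = ρ n (a g)⁻¹
      rw [(ha g).1 n hn, map_inv],
    fun b hb => by
      show (a (b * g))⁻¹ = (a g)⁻¹
      rw [(ha g).2 b hb]⟩

theorem induced_shift {f : L → W} (hf : f ∈ induced ρ N B) (l : L) : (fun g => f (g * l)) ∈ induced ρ N B :=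
  fun g => ⟨fun n hn => by simpa [mul_assoc] using (hf (g * l)).1 n hn,
    fun b hb => by simpa [mul_assoc] using (hf (g * l)).2 b hb⟩

/-- Right translation. -/
def inducedAct : L →* MulAut (induced ρ N B) where
  toFun l :=
    { toFun := fun f => ⟨fun g => f.1 (g * l), induced_shift ρ N B f.2 l⟩
      invFun := fun f => ⟨fun g => f.1 (g * l⁻¹), induced_shift ρ N B f.2 l⁻¹⟩
      left_inv := fun f => Subtype.ext (funext fun g => by simp)
      right_inv := fun f => Subtype.ext (funext fun g => by simp)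
      map_mul' := fun _ _ => rfl }
  map_one' := MulEquiv.ext fun f => Subtype.ext (funext fun g => by simp)
  map_mul' l m := MulEquiv.ext fun f => Subtype.ext (funext fun g => by simp [mul_assoc])

theorem inducedAct_apply (l : L) (f : induced ρ N B) (g : L) :
    (inducedAct ρ N B l f).1 g = f.1 (g * l) := rfl

theorem inducedAct_trivial [B.Normal] {b : L} (hb : b ∈ B) : inducedAct ρ N B b = 1 :=
  MulEquiv.ext fun f => Subtype.ext (funext fun g => by
    have h := (f.2 g).2 (g * b * g⁻¹) (Subgroup.Normal.conj_mem ‹_› b hb g)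
    simpa [inducedAct_apply] using h)

theorem inducedAct_fpf [N.Normal] {x : L} (hx : x ∈ N)
    (hfix : ∀ g : L, ∀ w : W, ρ (g * x * g⁻¹) w = w → w = 1) (f : induced ρ N B)
    (h : inducedAct ρ N B x f = f) : f = 1 := by
  refine Subtype.ext (funext fun g => hfix g _ ?_)
  rw [← (f.2 g).1 _ (Subgroup.Normal.conj_mem ‹_› x hx g), show g * x * g⁻¹ * g = g * x by group]
  exact congrFun (congrArg Subtype.val h) g

theorem induced_nontrivial [B.Normal] [Nontrivial W] (hB : ∀ x, x ∈ N → x ∈ B → ρ x = 1) :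
    Nontrivial (induced ρ N B) := by
  classical
  obtain ⟨w, hw⟩ := exists_ne (1 : W)
  set f : L → W := fun g => if h : ∃ n ∈ N, n⁻¹ * g ∈ B then ρ h.choose w else 1 with hf
  have key : ∀ g n, n ∈ N → n⁻¹ * g ∈ B → f g = ρ n w := by
    intro g n hn hb
    have h : ∃ n ∈ N, n⁻¹ * g ∈ B := ⟨n, hn, hb⟩
    rw [hf]
    simp only [dif_pos h]
    obtain ⟨hn', hb'⟩ := h.choose_spec
    have h1 : ρ (n⁻¹ * h.choose) = 1 := hB _ (mul_mem (inv_mem hn) hn') (by
      have := mul_mem hb (inv_mem hb')
      simpa [mul_assoc] using this)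
    rw [map_mul, map_inv, inv_mul_eq_one] at h1
    rw [h1]
  have hnone : ∀ g, (¬ ∃ n ∈ N, n⁻¹ * g ∈ B) → f g = 1 := fun g hg => by rw [hf]; simp only [dif_neg hg]
  have hmem : f ∈ induced ρ N B := by
    intro g
    constructor
    · intro n hn
      by_cases h : ∃ m ∈ N, m⁻¹ * g ∈ B
      · obtain ⟨m, hm, hb⟩ := h
        rw [key g m hm hb, key (n * g) (n * m) (mul_mem hn hm) (by simpa [mul_assoc] using hb), map_mul]
        rfl
      · rw [hnone g h, map_one, hnone]
        rintro ⟨m, hm, hb⟩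
        exact h ⟨n⁻¹ * m, mul_mem (inv_mem hn) hm, by simpa [mul_assoc] using hb⟩
    · intro b hb
      by_cases h : ∃ m ∈ N, m⁻¹ * g ∈ B
      · obtain ⟨m, hm, hb'⟩ := h
        rw [key g m hm hb', key (b * g) m hm ?_]
        have := mul_mem (Subgroup.Normal.conj_mem ‹_› b hb m⁻¹) hb'
        simpa [mul_assoc] using this
      · rw [hnone g h, hnone]
        rintro ⟨m, hm, hb'⟩
        refine h ⟨m, hm, ?_⟩
        have := mul_mem (inv_mem (Subgroup.Normal.conj_mem ‹_› b hb m⁻¹)) hb'
        simpa [mul_assoc] using this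
  refine nontrivial_of_ne ⟨f, hmem⟩ 1 fun e => hw ?_
  have h1 := congrFun (congrArg Subtype.val e) 1
  rw [show (⟨f, hmem⟩ : induced ρ N B).1 1 = f 1 from rfl, key 1 1 N.one_mem (by simp), map_one] at h1
  simpa using h1

end CfsgLib.PrimeGraphBdd
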