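import Cfsg.Agent.Lib.PrimeGraphBdd.Parts
import Cfsg.Agent.Lib.PrimeGraphBdd.Induce
import Cfsg.Agent.Lib.FrobAction.QGroupModule

/-!
A supplement `L` of `M` and an `L`-module in characteristic two on which the elements of prime order
not joined to `2` fix nothing, while the troublesome part of `L ∩ M` acts trivially.
-/

set_option autoImplicit false
set_option linter.style.haveILetI false

namespace CfsgLib.PrimeGraphBdd

open Subgroup

universe u

variable {G : Type u} [Group G] [Finite G] (M : Subgroup G) [M.Normal]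

/-- The primes that must act trivially. -/
def Bad (s : ℕ) : Prop := s = 2 ∨ ∃ q : ℕ, q.Prime ∧ q ∣ Nat.card M ∧ q ≠ s ∧ ¬ Adj G s q

/-- Conjugation on a normalised subgroup. -/
def conjOn (L Z : Subgroup G) (h : ∀ l ∈ L, ∀ z ∈ Z, l * z * l⁻¹ ∈ Z) : L →* MulAut Z where
  toFun l :=
    { toFun := fun z => ⟨(l : G) * z * (l : G)⁻¹, h l l.2 z z.2⟩
      invFun := fun z => ⟨(l : G)⁻¹ * z * (l : G), by simpa using h (l : G)⁻¹ (inv_mem l.2) z z.2⟩
      left_inv := fun z => Subtype.ext (by simp [mul_assoc])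
      right_inv := fun z => Subtype.ext (by simp [mul_assoc])
      map_mul' := fun a b => Subtype.ext (by simp [mul_assoc]) }
  map_one' := MulEquiv.ext fun z => Subtype.ext (by simp)
  map_mul' a b := MulEquiv.ext fun z => Subtype.ext (by simp [mul_assoc])

theorem conjOn_coe (L Z : Subgroup G) (h : ∀ l ∈ L, ∀ z ∈ Z, l * z * l⁻¹ ∈ Z) (l : L) (z : Z) :
    ((conjOn L Z h l z : Z) : G) = l * z * (l : G)⁻¹ := rfl

theorem exists_supplement (N : Subgroup G) (hN : N ⊔ M = ⊤) :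
    ∃ L ≤ N, L ⊔ M = ⊤ ∧ M.subgroupOf L ≤ frattini L := by
  obtain ⟨L, ⟨hLN, hL⟩, hmin⟩ :=
    (Set.toFinite {L : Subgroup G | L ≤ N ∧ L ⊔ M = ⊤}).exists_minimal ⟨N, le_rfl, hN⟩
  refine ⟨L, hLN, hL, le_iInf₂ fun W hW => ?_⟩
  by_contra hle
  have hWD : W ⊔ M.subgroupOf L = ⊤ := hW.2 _ (lt_of_le_of_ne le_sup_left fun e => hle (e ▸ le_sup_right))
  have h1 : (W.map L.subtype) ⊔ M = ⊤ := by
    rw [eq_top_iff, ← hL]
    refine sup_le ?_ le_sup_right
    have h := congrArg (Subgroup.map L.subtype) hWD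
    rw [Subgroup.map_sup, ← MonoidHom.range_eq_map, Subgroup.range_subtype] at h
    exact h.symm.le.trans (sup_le_sup le_rfl (Subgroup.map_comap_le L.subtype M))
  have h2 : L ≤ W.map L.subtype := hmin ⟨(Subgroup.map_subtype_le W).trans hLN, h1⟩ (Subgroup.map_subtype_le W)
  refine hW.1 (eq_top_iff.2 fun l _ => ?_)
  obtain ⟨w, hw, e⟩ := h2 l.2
  rwa [← Subtype.ext (e : (w : G) = l)]

theorem exists_actor (h2 : 2 ∣ Nat.card M)
    (hadj : ∀ q : ℕ, q.Prime → q ≠ 2 → q ∣ Nat.card M → Adj G 2 q) :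
    ∃ (L : Subgroup G) (V : Type u) (_ : CommGroup V) (_ : Finite V) (θ : L →* MulAut V),
      Nontrivial V ∧ (∀ v : V, v ^ 2 = 1) ∧ L ⊔ M = ⊤ ∧
      (∀ (l : L) (r : ℕ), r.Prime → r ≠ 2 → ¬ Adj G 2 r → orderOf l = r → ∀ v, θ l v = v → v = 1) ∧
      ∀ (l : L) (s : ℕ), (l : G) ∈ M → s.Prime → Bad M s → (∃ j, l ^ s ^ j = 1) → θ l = 1 := by
  classical
  haveI : Fact (Nat.Prime 2) := ⟨Nat.prime_two⟩
  obtain ⟨S⟩ : Nonempty (Sylow 2 M) := inferInstance
  set S' := (S : Subgroup M).map M.subtype with hS'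
  obtain ⟨L, hLN, hL, hDF⟩ := exists_supplement M _ (Sylow.normalizer_sup_eq_top S)
  haveI : Group.IsNilpotent (frattini L) := frattini_nilpotent
  set D := M.subgroupOf L with hD
  haveI : D.Normal := Subgroup.normal_subgroupOf
  haveI : Group.IsNilpotent D :=
    Group.nilpotent_of_mulEquiv (Subgroup.subgroupOfEquivOfLe hDF)
  set D2 := part D (· = 2) with hD2
  haveI hD2n : D2.Normal := part_normal D _
  have hnorm : ∀ g ∈ normalizer (S' : Set G), ∀ s ∈ S', g * s * g⁻¹ ∈ S' := fun g hg s hs =>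
    (Subgroup.mem_normalizer_iff.1 hg s).1 hs
  -- the central involutions of the Sylow subgroup
  let Z0 : Subgroup G :=
    { carrier := {z | z ∈ S' ∧ (∀ s ∈ S', Commute s z) ∧ z * z = 1}
      one_mem' := ⟨one_mem _, fun s _ => Commute.one_right s, one_mul 1⟩
      mul_mem' := fun {a b} ha hb => ⟨mul_mem ha.1 hb.1, fun s hs => (ha.2.1 s hs).mul_right (hb.2.1 s hs), by
        have hab : Commute b a := ha.2.1 b hb.1
        rw [mul_assoc, ← mul_assoc b a b, hab.eq, mul_assoc a b b, hb.2.2, mul_one, ha.2.2]⟩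
      inv_mem' := fun {a} ha => ⟨inv_mem ha.1, fun s hs => (ha.2.1 s hs).inv_right, by
        rw [← mul_inv_rev, ha.2.2, inv_one]⟩ }
  have hZ0L : ∀ l ∈ L, ∀ z ∈ Z0, l * z * l⁻¹ ∈ Z0 := by
    rintro l hl z ⟨hz1, hz2, hz3⟩
    refine ⟨hnorm l (hLN hl) z hz1, fun s hs => ?_, ?_⟩
    · have hs' : l⁻¹ * s * l ∈ S' := by simpa using hnorm l⁻¹ (inv_mem (hLN hl)) s hs
      have h := (hz2 _ hs').eq
      show s * (l * z * l⁻¹) = l * z * l⁻¹ * s
      calc s * (l * z * l⁻¹) = l * (l⁻¹ * s * l * z) * l⁻¹ := by group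
        _ = l * (z * (l⁻¹ * s * l)) * l⁻¹ := by rw [h]
        _ = l * z * l⁻¹ * s := by group
    · calc l * z * l⁻¹ * (l * z * l⁻¹) = l * (z * z) * l⁻¹ := by group
        _ = 1 := by rw [hz3, mul_one, mul_inv_cancel]
  have hZ0 : 2 ∣ Nat.card Z0 := by
    have hS1 : (S : Subgroup M) ≠ ⊥ := Sylow.ne_bot_of_dvd_card S h2
    haveI : Nontrivial (S : Subgroup M) := (Subgroup.nontrivial_iff_ne_bot _).2 hS1
    haveI := S.isPGroup'.center_nontrivial
    obtain ⟨n, hn⟩ := (S.isPGroup'.to_subgroup (center (S : Subgroup M))).exists_card_eq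
    have hn0 : n ≠ 0 := by
      rintro rfl
      rw [pow_zero] at hn
      exact absurd hn (Finite.one_lt_card (α := center (S : Subgroup M))).ne'
    obtain ⟨z, hz⟩ := exists_prime_orderOf_dvd_card' (G := center (S : Subgroup M)) 2 (hn ▸ dvd_pow_self 2 hn0)
    have hzo : orderOf ((((z : (S : Subgroup M)) : M) : G)) = 2 := by
      rw [Subgroup.orderOf_coe, Subgroup.orderOf_coe, Subgroup.orderOf_coe, hz]
    have hmem : (((z : (S : Subgroup M)) : M) : G) ∈ Z0 := by
      refine ⟨⟨_, (z : (S : Subgroup M)).2, rfl⟩, ?_, ?_⟩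
      · rintro _ ⟨s, hs, rfl⟩
        exact congrArg (fun w : (S : Subgroup M) => ((w : M) : G)) (Subgroup.mem_center_iff.1 z.2 ⟨s, hs⟩)
      · rw [← sq]
        have h := pow_orderOf_eq_one ((((z : (S : Subgroup M)) : M) : G))
        rwa [hzo] at h
    rw [← hzo, ← Subgroup.orderOf_mk _ hmem]
    exact orderOf_dvd_natCard _
  -- fixed points of the `2`-part of `D`
  let Z1 : Subgroup G :=
    { carrier := {z | z ∈ Z0 ∧ ∀ d ∈ D2, Commute ((d : L) : G) z}
      one_mem' := ⟨one_mem _, fun _ _ => Commute.one_right _⟩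
      mul_mem' := fun ha hb => ⟨mul_mem ha.1 hb.1, fun d hd => (ha.2 d hd).mul_right (hb.2 d hd)⟩
      inv_mem' := fun ha => ⟨inv_mem ha.1, fun d hd => (ha.2 d hd).inv_right⟩ }
  have hZ1L : ∀ l ∈ L, ∀ z ∈ Z1, l * z * l⁻¹ ∈ Z1 := by
    rintro l hl z ⟨hz1, hz2⟩
    refine ⟨hZ0L l hl z hz1, fun d hd => ?_⟩
    have h := (hz2 _ (hD2n.conj_mem d hd (⟨l, hl⟩⁻¹ : L))).eq
    simp only [Subgroup.coe_mul, Subgroup.coe_inv, inv_inv] at h
    show (d : G) * (l * z * l⁻¹) = l * z * l⁻¹ * d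
    calc (d : G) * (l * z * l⁻¹) = l * (l⁻¹ * d * l * z) * l⁻¹ := by group
      _ = l * (z * (l⁻¹ * d * l)) * l⁻¹ := by rw [h]
      _ = l * z * l⁻¹ * d := by group
  haveI : Nontrivial Z1 := by
    have hp : IsPGroup 2 D2 := part_isPGroup D Nat.prime_two
    letI : MulAction D2 Z0 :=
      { smul := fun d z => ⟨((d : L) : G) * z * ((d : L) : G)⁻¹, hZ0L _ (d : L).2 z z.2⟩
        one_smul := fun z => Subtype.ext (by show ((1 : D2) : L) * (z : G) * _ = z; simp)
        mul_smul := fun a b z => Subtype.ext (by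
          show (((a * b : D2) : L) : G) * z * _ = ((a : L) : G) * (((b : L) : G) * z * ((b : L) : G)⁻¹) * _
          simp [mul_assoc]) }
    have h := hp.card_modEq_card_fixedPoints Z0
    have h0 : 2 ∣ Nat.card (MulAction.fixedPoints D2 Z0) :=
      Nat.modEq_zero_iff_dvd.1 (h.symm.trans (Nat.modEq_zero_iff_dvd.2 hZ0))
    have h1 : (1 : Z0) ∈ MulAction.fixedPoints D2 Z0 := fun d => Subtype.ext (by
      show ((d : L) : G) * ((1 : Z0) : G) * ((d : L) : G)⁻¹ = _; simp)
    haveI : Nontrivial (MulAction.fixedPoints D2 Z0) := by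
      rw [← Finite.one_lt_card_iff_nontrivial]
      have : 0 < Nat.card (MulAction.fixedPoints D2 Z0) := by
        haveI : Nonempty (MulAction.fixedPoints D2 Z0) := ⟨⟨1, h1⟩⟩
        exact Nat.card_pos
      omega
    obtain ⟨⟨z, hz⟩, hz1⟩ := exists_ne (⟨1, h1⟩ : MulAction.fixedPoints D2 Z0)
    have hzm : (z : G) ∈ Z1 := ⟨z.2, fun d hd => mul_inv_eq_iff_eq_mul.1 (congrArg Subtype.val (hz ⟨d, hd⟩))⟩
    exact nontrivial_of_ne ⟨z, hzm⟩ 1 fun e => hz1 (Subtype.ext (Subtype.ext (congrArg (fun w : Z1 => (w : G)) e)))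
  have hsq : ∀ z : Z1, z ^ 2 = 1 := fun z => Subtype.ext (by rw [sq]; exact z.2.1.2.2)
  haveI : IsMulCommutative Z1 := ⟨⟨fun a b => Subtype.ext (b.2.1.2.1 a a.2.1.1).eq⟩⟩
  letI : CommGroup Z1 := { (inferInstance : Group Z1) with mul_comm := fun a b => Subtype.ext (b.2.1.2.1 a a.2.1.1).eq }
  set ρ := conjOn L Z1 hZ1L with hρ
  -- the elements of prime order not joined to two fix nothing
  set gen : Set L := {l | ∃ r : ℕ, r.Prime ∧ r ≠ 2 ∧ ¬ Adj G 2 r ∧ orderOf l = r} with hgen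
  set N := closure gen with hN
  haveI : N.Normal := closure_normal_of_conj fun g x ⟨r, h1, h2', h3, h4⟩ =>
    ⟨r, h1, h2', h3, (orderOf_injective (MulAut.conj g).toMonoidHom (MulAut.conj g).injective x).trans h4⟩
  have hfpf : ∀ x ∈ gen, ∀ z : Z1, Commute ((x : L) : G) (z : G) → z = 1 := by
    rintro x ⟨r, hr, hr2, hna, hxr⟩ z hc
    by_contra hz
    refine hna (adj_of_commute Nat.prime_two hr hr2.symm hc.symm ?_ (by rw [Subgroup.orderOf_coe, hxr]))
    rw [Subgroup.orderOf_coe]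
    exact orderOf_eq_prime (hsq z) hz
  have hρfix : ∀ x ∈ gen, ∀ z : Z1, ρ x z = z → z = 1 := fun x hx z h =>
    hfpf x hx z (mul_inv_eq_iff_eq_mul.1 (congrArg Subtype.val h))
  have hgM : ∀ x ∈ gen, ∀ s : ℕ, s.Prime → s ∣ Nat.card M → ¬ s ∣ orderOf x := by
    rintro x ⟨r, hr, hr2, hna, hxr⟩ s hs hsM hd
    rw [hxr, Nat.prime_dvd_prime_iff_eq hs hr] at hd
    exact hna (hadj r hr hr2 (hd ▸ hsM))
  -- bad prime power elements of `D ∩ N` act trivially
  have hkill : ∀ (s : ℕ), s.Prime → Bad M s → ∀ a : L, a ∈ D → a ∈ N → (∃ j, a ^ s ^ j = 1) → ρ a = 1 := by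
    intro s hs hbad a haD haN hsj
    obtain ⟨j, hj⟩ := hsj
    by_cases ha1 : a = 1
    · rw [ha1, map_one]
    by_cases hs2 : s = 2
    · subst hs2
      refine MulEquiv.ext fun z => Subtype.ext ?_
      show (a : G) * (z : G) * (a : G)⁻¹ = z
      exact mul_inv_eq_iff_eq_mul.2 (z.2.2 a (mem_part haD rfl hs hj)).eq
    obtain ⟨q, hq, hqM, hqs, hna⟩ := hbad.resolve_left hs2
    haveI : Fact s.Prime := ⟨hs⟩
    haveI : Fact q.Prime := ⟨hq⟩
    have hsM : s ∣ Nat.card M := by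
      obtain ⟨i, -, hi⟩ := (Nat.dvd_prime_pow hs).1 (orderOf_dvd_of_pow_eq_one hj)
      have hi0 : i ≠ 0 := fun e => ha1 (orderOf_eq_one_iff.1 (by rw [hi, e, pow_zero]))
      have h' : orderOf (⟨(a : G), haD⟩ : M) = s ^ i :=
        (Subgroup.orderOf_mk (H := M) (a : G) haD).trans ((Subgroup.orderOf_coe a).trans hi)
      exact ((h' ▸ dvd_pow_self s hi0 : s ∣ orderOf (⟨(a : G), haD⟩ : M))).trans (orderOf_dvd_natCard _)
    -- the `s`-part of `D` is centralised by the generators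
    set Qs := part D (· = s) with hQs
    haveI : Qs.Normal := part_normal D _
    have hQp : IsPGroup s Qs := part_isPGroup D hs
    have hcomm : ∀ b ∈ Qs, ∀ n ∈ N, ρ n * ρ b = ρ b * ρ n := by
      intro b hb n hn
      have hle : N ≤ (centralizer {ρ b}).comap ρ := by
        refine (closure_le _).2 fun x hx => ?_
        obtain ⟨r, hr, hr2, hna', hxr⟩ := hx
        haveI : Fact r.Prime := ⟨hr⟩
        have hsr : s ≠ r := fun e => hgM x ⟨r, hr, hr2, hna', hxr⟩ s hs hsM (by rw [hxr, e])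
        have h := QGroupModule.commutator_centralizes (p := 2) (q := s) (r := r) (Ne.symm hs2) hr2.symm hsr
          (zpowers ((x : L) : G)) (Qs.map L.subtype) Z1
          (by rw [Nat.card_zpowers, Subgroup.orderOf_coe, hxr]) (hQp.map _)
          (fun v hv => congrArg Subtype.val (hsq ⟨v, hv⟩))
          (zpowers_le.2 (Subgroup.mem_normalizer_iff.2 fun v => ⟨fun ⟨w, hw, e⟩ =>
              ⟨x * w * x⁻¹, Subgroup.Normal.conj_mem ‹_› w hw x, by rw [← e]; simp⟩,
            fun ⟨w, hw, e⟩ => ⟨x⁻¹ * w * x, by simpa using Subgroup.Normal.conj_mem ‹Qs.Normal› w hw x⁻¹, by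
              simp only [Subgroup.coe_subtype] at e
              simp [e, mul_assoc]⟩⟩))
          (zpowers_le.2 (Subgroup.mem_normalizer_iff.2 fun v => ⟨hZ1L _ x.2 v,
            fun h => by simpa [mul_assoc] using hZ1L _ (inv_mem x.2) _ h⟩))
          (by
            rintro _ ⟨w, -, rfl⟩
            exact Subgroup.mem_normalizer_iff.2 fun v => ⟨hZ1L _ w.2 v,
              fun h => by simpa [mul_assoc] using hZ1L _ (inv_mem w.2) _ h⟩)
          (by
            rw [eq_bot_iff]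
            rintro z ⟨hz, hzc⟩
            exact congrArg Subtype.val (hfpf x ⟨r, hr, hr2, hna', hxr⟩ ⟨z, hz⟩
              (Subgroup.mem_centralizer_iff.1 hzc _ (Subgroup.mem_zpowers _))))
          (fun e => absurd e hs2) _ (Subgroup.mem_zpowers _) _ ⟨b, hb, rfl⟩
        have hc : ρ (x * b * x⁻¹ * b⁻¹) = 1 := MulEquiv.ext fun z => Subtype.ext (by
          show ((x * b * x⁻¹ * b⁻¹ : L) : G) * (z : G) * _ = z
          exact mul_inv_eq_iff_eq_mul.2 (Subgroup.mem_centralizer_iff.1 h _ z.2).symm)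
        rw [SetLike.mem_coe, Subgroup.mem_comap, Subgroup.mem_centralizer_singleton_iff]
        simp only [map_mul, map_inv, mul_inv_eq_one] at hc
        first
          | exact mul_inv_eq_iff_eq_mul.1 hc
          | exact (mul_inv_eq_iff_eq_mul.1 hc).symm
      exact Subgroup.mem_centralizer_singleton_iff.1 (hle hn)
    set A := N.map ρ with hA
    set f : N →* A := ρ.subgroupMap N with hf
    have hfs : Function.Surjective f := MonoidHom.subgroupMap_surjective ρ N
    obtain ⟨T0⟩ : Nonempty (Sylow s N) := inferInstance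
    -- the image of the Sylow subgroup in `G / M` is cyclic
    set π : N →* G ⧸ M := (QuotientGroup.mk' M).comp (L.subtype.comp N.subtype) with hπ
    haveI : IsCyclic ↥((T0 : Subgroup N).map π) :=
      isCyclic_quot M hs2 hqs.symm hqM (fun g hg => hna ⟨g, hg⟩) (T0.isPGroup'.map π)
    obtain ⟨⟨e, he⟩, hgen'⟩ := IsCyclic.exists_generator (α := ↥((T0 : Subgroup N).map π))
    obtain ⟨t, ht, rfl⟩ := he
    have hdec : ∀ y ∈ (T0 : Subgroup N), ∃ i : ℤ, ∀ n ∈ N,
        Commute (ρ n) (ρ ((t : L) ^ i)⁻¹ * ρ (y : L)) := by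
      intro y hy
      obtain ⟨i, hi⟩ := hgen' ⟨π y, y, hy, rfl⟩
      refine ⟨i, fun n hn => ?_⟩
      rw [← map_mul]
      refine hcomm _ ?_ n hn
      have hd : (t ^ i)⁻¹ * y ∈ (T0 : Subgroup N) := mul_mem (inv_mem (zpow_mem ht i)) hy
      have hdM : ((t : L) ^ i)⁻¹ * (y : L) ∈ D := by
        show ((((t : L) ^ i)⁻¹ * (y : L) : L) : G) ∈ M
        rw [← QuotientGroup.eq_one_iff]
        have h1 : π t ^ i = π y := congrArg Subtype.val hi
        have h2' : π ((t ^ i)⁻¹ * y) = 1 := by rw [map_mul, map_inv, map_zpow, h1, inv_mul_cancel]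
        simpa [hπ] using h2'
      obtain ⟨k, hk⟩ := T0.isPGroup' ⟨_, hd⟩
      exact mem_part hdM rfl hs (congrArg (fun w : (T0 : Subgroup N) => ((w : N) : L)) hk)
    have hTc : ∀ x ∈ ((T0.mapSurjective hfs : Sylow s A) : Subgroup A), ∀ y ∈ ((T0.mapSurjective hfs : Sylow s A) : Subgroup A),
        x * y = y * x := by
      rintro _ ⟨x, hx, rfl⟩ _ ⟨y, hy, rfl⟩
      obtain ⟨i, hi⟩ := hdec x hx
      obtain ⟨k, hk⟩ := hdec y hy
      refine Subtype.ext ?_
      show (ρ (x : L) * ρ (y : L) : MulAut Z1) = ρ (y : L) * ρ (x : L)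
      have h3 : Commute (ρ (x : L)) (ρ ((t : L) ^ k)⁻¹ * ρ (y : L)) := hk _ x.2
      have h4 : Commute (ρ ((t : L) ^ k)) (ρ (x : L)) := by
        have h5 := hi _ (zpow_mem t.2 k)
        have h6 : Commute (ρ ((t : L) ^ k)) (ρ ((t : L) ^ i)) :=
          ((Commute.refl (t : L)).zpow_zpow k i).map ρ
        simpa [← map_mul] using h6.mul_right h5
      have h7 := h4.symm.mul_right h3
      rw [map_inv, mul_inv_cancel_left] at h7
      exact h7.eq
    set z : A := f ⟨a, haN⟩ with hz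
    have hzc : ∀ w : A, w * z = z * w := by
      intro w
      obtain ⟨⟨n, hn⟩, rfl⟩ := hfs w
      exact Subtype.ext (hcomm a (mem_part haD rfl hs hj) n hn)
    have hzT : z ∈ ((T0.mapSurjective hfs : Sylow s A) : Subgroup A) := by
      haveI : (zpowers z).Normal := ⟨fun w hw g => by
        obtain ⟨i, rfl⟩ := hw
        rw [← hzc g |> fun h => ((show Commute g z from h).zpow_right i).eq.symm, mul_inv_cancel_right]
        exact Subgroup.zpow_mem _ (mem_zpowers z) i⟩
      have hzp : IsPGroup s (zpowers z) := by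
        obtain ⟨i, -, hi⟩ := (Nat.dvd_prime_pow hs).1
          (orderOf_dvd_of_pow_eq_one (n := s ^ j) (x := z) (by
            rw [hz, ← map_pow, show (⟨a, haN⟩ : N) ^ s ^ j = 1 from Subtype.ext hj, map_one]))
        exact IsPGroup.of_card (n := i) (by rw [Nat.card_zpowers, hi])
      have := (T0.mapSurjective hfs).is_maximal' ((T0.mapSurjective hfs).isPGroup'.to_sup_of_normal_right hzp) le_sup_left
      exact this.le (le_sup_right (a := ((T0.mapSurjective hfs : Sylow s A) : Subgroup A)) (mem_zpowers z))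
    have hX : closure {x : A | ∃ l ∈ gen, (x : MulAut Z1) = ρ l} = ⊤ := by
      refine Subgroup.map_injective A.subtype_injective ?_
      rw [MonoidHom.map_closure, ← MonoidHom.range_eq_map, Subgroup.range_subtype, hA, hN, MonoidHom.map_closure]
      congr 1
      ext w
      constructor
      · rintro ⟨x, ⟨l, hl, e⟩, rfl⟩; exact ⟨l, hl, e.symm⟩
      · rintro ⟨l, hl, rfl⟩; exact ⟨⟨ρ l, Subgroup.subset_closure ⟨l, hl, rfl⟩⟩, ⟨l, hl, rfl⟩, rfl⟩
    have := central_eq_one (T0.mapSurjective hfs) hTc hX (fun x ⟨l, hl, e⟩ hd => hgM l hl s hs hsM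
      (hd.trans (by rw [← Subgroup.orderOf_coe, e]; exact orderOf_map_dvd ρ l))) hzc hzT
    exact congrArg Subtype.val this
  -- induce
  set B := part D (Bad M) with hB
  haveI : B.Normal := part_normal D _
  have hBN : ∀ x, x ∈ N → x ∈ B → ρ x = 1 := fun x hxN hxB => eq_one_of_parts ρ x fun s hs hsx =>
    hkill s hs (part_dvd D (Bad M) hs (hsx.trans (by
        rw [← Subgroup.orderOf_mk x hxB]; exact orderOf_dvd_natCard _)))
      _ (pow_mem (part_le D _ hxB) _) (pow_mem hxN _) ⟨_, pow_part x s⟩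
  refine ⟨L, induced ρ N B, inferInstance, inferInstance, inducedAct ρ N B, induced_nontrivial ρ N B hBN,
    fun v => Subtype.ext (funext fun g => hsq (v.1 g)), hL, ?_, ?_⟩
  · intro l r hr hr2 hna hl v hv
    refine inducedAct_fpf ρ N B (subset_closure ⟨r, hr, hr2, hna, hl⟩) (fun g w hw => ?_) v hv
    exact hρfix _ ⟨r, hr, hr2, hna, (orderOf_injective (MulAut.conj g).toMonoidHom (MulAut.conj g).injective l).trans hl⟩ w hw
  · intro l s hlM hs hbad hj
    obtain ⟨j, hj⟩ := hj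
    exact inducedAct_trivial ρ N B (mem_part hlM hbad hs hj)

end CfsgLib.PrimeGraphBdd
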