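import Mathlib
import Cfsg.Agent.Lib.PrimeGraphModule

/-!
Prime graphs: elementary facts, and groups of unbounded order with a given prime graph.
-/

set_option autoImplicit false

namespace CfsgLib.PrimeGraphBdd

universe u v w

/-- Two primes are joined. -/
def Adj (G : Type u) [Monoid G] (p q : ℕ) : Prop := ∃ g : G, orderOf g = p * q

/-- Same vertices and same edges. -/
def SameGraph (G : Type u) (H : Type v) [Group G] [Group H] : Prop :=
  (∀ p : ℕ, p.Prime → (p ∣ Nat.card G ↔ p ∣ Nat.card H)) ∧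
    ∀ p q : ℕ, p.Prime → q.Prime → p ≠ q → ((∃ g : G, orderOf g = p * q) ↔ ∃ g : H, orderOf g = p * q)

/-- Groups with the prime graph of `G` have bounded order. -/
def Bounded (G : Type u) [Group G] : Prop :=
  ∃ n : ℕ, ∀ (H : Type) [Group H] [Finite H], SameGraph G H → Nat.card H ≤ n

section

variable {G : Type u} [Group G] [Finite G]

theorem adj_comm {p q : ℕ} : Adj G p q ↔ Adj G q p := by rw [Adj, Adj, mul_comm]

theorem adj_of_dvd {p q : ℕ} {g : G} (h : p * q ∣ orderOf g) : Adj G p q := by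
  obtain ⟨m, hm⟩ := h
  have hm0 : m ≠ 0 := fun e => by simp [e] at hm; exact (orderOf_pos g).ne' (by simpa using hm)
  exact ⟨g ^ m, by rw [orderOf_pow_of_dvd hm0 ⟨p * q, by rw [hm, mul_comm]⟩, hm,
    Nat.mul_div_cancel _ (Nat.pos_of_ne_zero hm0)]⟩

theorem adj_of_commute {p q : ℕ} (hp : p.Prime) (hq : q.Prime) (hpq : p ≠ q) {a b : G}
    (hab : Commute a b) (ha : orderOf a = p) (hb : orderOf b = q) : Adj G p q :=
  ⟨a * b, by rw [hab.orderOf_mul_eq_mul_orderOf_of_coprime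
    (by rw [ha, hb]; exact (Nat.coprime_primes hp hq).2 hpq), ha, hb]⟩

/-- A group with a big twin graph contradicts boundedness. -/
theorem not_bounded (h : ∀ n : ℕ, ∃ (H : Type w) (_ : Group H) (_ : Finite H), n < Nat.card H ∧ SameGraph G H) :
    ¬ Bounded G := by
  rintro ⟨n, hn⟩
  obtain ⟨H, iH, fH, hlt, hsame⟩ := h n
  obtain ⟨H₀, i₀, f₀, ⟨e⟩⟩ := PrimeGraphModule.exists_small (H := H)
  have hc : Nat.card H₀ = Nat.card H := Nat.card_congr e.toEquiv
  refine absurd (hn H₀ ⟨fun p hp => ?_, fun p q hp hq hpq => ?_⟩) (by omega)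
  · rw [hc]; exact hsame.1 p hp
  · rw [hsame.2 p q hp hq hpq]
    exact ⟨fun ⟨x, hx⟩ => ⟨e.symm x, by rw [MulEquiv.orderOf_eq]; exact hx⟩,
      fun ⟨x, hx⟩ => ⟨e x, by rw [MulEquiv.orderOf_eq]; exact hx⟩⟩

end

end CfsgLib.PrimeGraphBdd
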