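import Cfsg.Agent.Lib.PrimeGraphBdd.Basic

/-!
Fibre powers over an elementary abelian normal subgroup keep the spectrum.
-/

set_option autoImplicit false

namespace CfsgLib.PrimeGraphBdd

universe u

variable {G : Type u} [Group G] [Finite G] (V : Subgroup G) [V.Normal] (k : ℕ)

/-- Tuples with one image modulo `V`. -/
def fibre : Subgroup (Fin (k + 1) → G) where
  carrier := {f | ∀ i, (f i : G ⧸ V) = (f 0 : G ⧸ V)}
  one_mem' := fun _ => rfl
  mul_mem' := fun {a b} ha hb i => by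
    show ((a i * b i : G) : G ⧸ V) = ((a 0 * b 0 : G) : G ⧸ V)
    rw [QuotientGroup.mk_mul, QuotientGroup.mk_mul, ha i, hb i]
  inv_mem' := fun {a} ha i => by
    show (((a i)⁻¹ : G) : G ⧸ V) = (((a 0)⁻¹ : G) : G ⧸ V)
    rw [QuotientGroup.mk_inv, QuotientGroup.mk_inv, ha i]

theorem card_fibre_ge : Nat.card (Fin k → V) ≤ Nat.card (fibre V k) := by
  refine Nat.card_le_card_of_injective (fun f => ⟨Fin.cons 1 (fun i => (f i : G)), fun i => ?_⟩) ?_
  · refine Fin.cases ?_ (fun j => ?_) i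
    · rfl
    · rw [Fin.cons_succ, Fin.cons_zero]
      exact (QuotientGroup.eq_one_iff _).2 (f j).2
  · intro f g e
    funext i
    exact Subtype.ext (by simpa using congrFun (congrArg Subtype.val e) i.succ)

/-- The order of a tuple is the order of one of its entries. -/
theorem orderOf_fibre {ℓ : ℕ} (hℓ : ℓ.Prime) (hV : ∀ v ∈ V, v ^ ℓ = 1) (f : fibre V k) :
    ∃ j, orderOf (f.1 j) = orderOf f := by
  set d := orderOf ((f.1 0 : G) : G ⧸ V) with hd
  have hlow : ∀ i, d ∣ orderOf (f.1 i) := fun i => by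
    rw [hd, ← f.2 i]
    exact orderOf_map_dvd (QuotientGroup.mk' V) (f.1 i)
  have hup : ∀ i, orderOf (f.1 i) ∣ d * ℓ := fun i => by
    refine orderOf_dvd_of_pow_eq_one ?_
    rw [pow_mul]
    refine hV _ ((QuotientGroup.eq_one_iff _).1 ?_)
    rw [QuotientGroup.mk_pow, f.2 i, hd, pow_orderOf_eq_one]
  have hmax : ∃ j, ∀ i, orderOf (f.1 i) ∣ orderOf (f.1 j) := by
    by_cases h : ∀ i, orderOf (f.1 i) = d
    · exact ⟨0, fun i => by rw [h i, h 0]⟩
    push Not at h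
    obtain ⟨j, hj⟩ := h
    refine ⟨j, fun i => ?_⟩
    obtain ⟨c, hc⟩ := hlow j
    have hd0 : 0 < d := orderOf_pos _
    have hcl : c ∣ ℓ := Nat.dvd_of_mul_dvd_mul_left hd0 (hc ▸ hup j)
    rcases (Nat.dvd_prime hℓ).1 hcl with rfl | rfl
    · exact absurd (by rw [hc, mul_one]) hj
    · rw [hc]; exact hup i
  obtain ⟨j, hj⟩ := hmax
  refine ⟨j, Nat.dvd_antisymm ?_ ?_⟩
  · exact orderOf_map_dvd ((Pi.evalMonoidHom (fun _ => G) j).comp (fibre V k).subtype) f
  · refine orderOf_dvd_of_pow_eq_one (Subtype.ext (funext fun i => ?_))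
    show f.1 i ^ orderOf (f.1 j) = 1
    exact orderOf_dvd_iff_pow_eq_one.1 (hj i)

theorem sameGraph_fibre {ℓ : ℕ} (hℓ : ℓ.Prime) (hV : ∀ v ∈ V, v ^ ℓ = 1) : SameGraph G (fibre V k) := by
  have hdiag : ∀ g : G, ∃ f : fibre V k, orderOf f = orderOf g := fun g => by
    obtain ⟨j, hj⟩ := orderOf_fibre V k hℓ hV ⟨fun _ => g, fun _ => rfl⟩
    exact ⟨⟨fun _ => g, fun _ => rfl⟩, hj.symm⟩
  refine ⟨fun p hp => ?_, fun p q _ _ _ => ?_⟩
  · haveI : Fact p.Prime := ⟨hp⟩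
    constructor
    · intro h
      obtain ⟨g, hg⟩ := exists_prime_orderOf_dvd_card' p h
      obtain ⟨f, hf⟩ := hdiag g
      rw [← hg, ← hf]; exact orderOf_dvd_natCard f
    · intro h
      obtain ⟨f, hf⟩ := exists_prime_orderOf_dvd_card' p h
      obtain ⟨j, hj⟩ := orderOf_fibre V k hℓ hV f
      rw [← hf, ← hj]; exact orderOf_dvd_natCard _
  · constructor
    · rintro ⟨g, hg⟩
      obtain ⟨f, hf⟩ := hdiag g
      exact ⟨f, hf.trans hg⟩
    · rintro ⟨f, hf⟩
      obtain ⟨j, hj⟩ := orderOf_fibre V k hℓ hV f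
      exact ⟨_, hj.trans hf⟩

/-- A non-trivial elementary abelian normal subgroup gives unbounded order. -/
theorem not_bounded_of_elementary {ℓ : ℕ} (hℓ : ℓ.Prime) (hV : ∀ v ∈ V, v ^ ℓ = 1) (hV1 : V ≠ ⊥) :
    ¬ Bounded G := by
  refine not_bounded.{u, u} fun n => ⟨fibre V n, inferInstance, inferInstance, ?_, sameGraph_fibre V n hℓ hV⟩
  haveI : Nontrivial V := (Subgroup.nontrivial_iff_ne_bot V).2 hV1
  refine lt_of_lt_of_le ?_ (card_fibre_ge V n)
  rw [Nat.card_fun, Nat.card_fin]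
  exact lt_of_lt_of_le Nat.lt_two_pow_self (Nat.pow_le_pow_left Finite.one_lt_card n)

end CfsgLib.PrimeGraphBdd
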