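import Cfsg.Agent.Lib.PrimeGraphBdd.Actor
import Cfsg.Agent.Lib.PrimeGraphBdd.Fibre
import Cfsg.Agent.Lib.FpfExt.Basic
import Cfsg.Agent.Lib.Elementary
import Cfsg.Agent.Lib.Components
import Cfsg.Agent.Lib.OddOrder.FeitThompson

/-!
A group whose prime graph is shared by only finitely many groups is almost simple.
-/

set_option autoImplicit false
set_option linter.style.haveILetI false

namespace CfsgLib.PrimeGraphBdd

open Subgroup

universe u

variable {G : Type u} [Group G] [Finite G]

/-- `M` even and every odd prime of `M` joined to `2` gives unbounded order. -/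
theorem not_bounded_of_joined (M : Subgroup G) [M.Normal] (h2 : 2 ∣ Nat.card M)
    (hadj : ∀ q : ℕ, q.Prime → q ≠ 2 → q ∣ Nat.card M → Adj G 2 q) : ¬ Bounded G := by
  classical
  haveI : Fact (Nat.Prime 2) := ⟨Nat.prime_two⟩
  obtain ⟨L, V, _, _, θ, hV, hsq, hL, hfpf, hkill⟩ := exists_actor M h2 hadj
  set C := M.subgroupOf L ⊓ θ.ker with hC
  haveI : (M.subgroupOf L).Normal := Subgroup.normal_subgroupOf
  haveI : C.Normal := inferInstance
  let mk : L →* L ⧸ C := QuotientGroup.mk' C
  let φ : L ⧸ C →* G ⧸ M := QuotientGroup.lift C ((QuotientGroup.mk' M).comp L.subtype)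
    fun l hl => (QuotientGroup.eq_one_iff (l : G)).2 hl.1
  let θ' : L ⧸ C →* MulAut V := QuotientGroup.lift C θ fun l hl => hl.2
  have hφ : ∀ g : G, ∃ l : L, (QuotientGroup.mk' M) g = φ (mk l) := by
    intro g
    obtain ⟨a, ha, b, hb, rfl⟩ := Subgroup.mem_sup_of_normal_right.1 (show g ∈ L ⊔ M by rw [hL]; trivial)
    refine ⟨⟨a, ha⟩, ?_⟩
    show ((a * b : G) : G ⧸ M) = (a : G ⧸ M)
    rw [QuotientGroup.eq]
    simpa using M.inv_mem hb
  -- the kernel of `φ` only involves primes joined to every prime of `M`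
  have hker : ∀ k : L ⧸ C, φ k = 1 → ∀ s : ℕ, s.Prime → s ∣ orderOf k →
      s ≠ 2 ∧ ∀ q : ℕ, q.Prime → q ∣ Nat.card M → q ≠ s → Adj G s q := by
    intro k hk s hs hsk
    obtain ⟨l, rfl⟩ := QuotientGroup.mk'_surjective C k
    have hlM : (l : G) ∈ M := (QuotientGroup.eq_one_iff (l : G)).1 hk
    have hnb : ¬ Bad M s := by
      intro hbad
      have hmem : l ^ (orderOf l / s ^ (orderOf l).factorization s) ∈ C :=
        ⟨pow_mem (show l ∈ M.subgroupOf L from hlM) _,
          hkill _ s (by rw [Subgroup.coe_pow]; exact pow_mem hlM _) hs hbad ⟨_, pow_part l s⟩⟩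
      have h1 := orderOf_dvd_of_pow_eq_one (x := QuotientGroup.mk' C l) (by
        rw [← map_pow]; exact (QuotientGroup.eq_one_iff _).2 hmem)
      exact Nat.not_dvd_ordCompl hs (orderOf_pos l).ne' (hsk.trans h1)
    refine ⟨fun e => hnb (Or.inl e), fun q hq hqM hqs => ?_⟩
    by_contra hna
    exact hnb (Or.inr ⟨q, hq, hqM, hqs, hna⟩)
  -- the fibre product
  let P : Subgroup (G × (L ⧸ C)) := ((QuotientGroup.mk' M).comp (MonoidHom.fst _ _)).eqLocus (φ.comp (MonoidHom.snd _ _))
  have hPs : ∀ g : G, ∃ x : P, x.1.1 = g := fun g => by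
    obtain ⟨l, hl⟩ := hφ g
    exact ⟨⟨(g, mk l), hl⟩, rfl⟩
  have hadjP : ∀ p q : ℕ, Adj G p q → Adj P p q := by
    rintro p q ⟨g, hg⟩
    obtain ⟨x, hx⟩ := hPs g
    refine adj_of_dvd (g := x) ?_
    rw [← hg, ← hx]
    exact orderOf_map_dvd ((MonoidHom.fst G (L ⧸ C)).comp P.subtype) x
  have hprime : ∀ p : ℕ, p.Prime → (p ∣ Nat.card G ↔ p ∣ Nat.card P) := by
    intro p hp
    haveI : Fact p.Prime := ⟨hp⟩
    constructor
    · intro h
      obtain ⟨g, hg⟩ := exists_prime_orderOf_dvd_card' p h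
      obtain ⟨x, hx⟩ := hPs g
      rw [← hg, ← hx]
      exact (orderOf_map_dvd ((MonoidHom.fst G (L ⧸ C)).comp P.subtype) x).trans (orderOf_dvd_natCard x)
    · intro h
      obtain ⟨⟨⟨g, k⟩, hgk⟩, ho⟩ := exists_prime_orderOf_dvd_card' p h
      rw [Subgroup.orderOf_mk, Prod.orderOf] at ho
      have hd : p ∣ orderOf g * orderOf k := by rw [← ho]; exact Nat.lcm_dvd_mul _ _
      rcases hp.dvd_mul.1 hd with h' | h'
      · exact h'.trans (orderOf_dvd_natCard g)
      · obtain ⟨l, rfl⟩ := QuotientGroup.mk'_surjective C k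
        exact ((h'.trans (orderOf_map_dvd _ l)).trans (orderOf_dvd_natCard l)).trans (card_subgroup_dvd_card L)
  have hedge : ∀ p q : ℕ, p.Prime → q.Prime → p ≠ q → Adj P p q → Adj G p q := by
    rintro p q hp hq hpq ⟨⟨⟨g, k⟩, hgk⟩, ho⟩
    rw [Subgroup.orderOf_mk, Prod.orderOf] at ho
    change (QuotientGroup.mk' M) g = φ k at hgk
    obtain ⟨l, rfl⟩ := QuotientGroup.mk'_surjective C k
    have hkl : orderOf (QuotientGroup.mk' C l) ∣ orderOf (l : G) := by
      rw [Subgroup.orderOf_coe]; exact orderOf_map_dvd _ l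
    set k := QuotientGroup.mk' C l with hk
    by_cases hg : p * q ∣ orderOf g
    · exact adj_of_dvd hg
    by_cases hk' : p * q ∣ orderOf k
    · exact adj_of_dvd (hk'.trans hkl)
    have hco := (Nat.coprime_primes hp hq).2 hpq
    have hdg : orderOf g ∣ p * q := ho ▸ Nat.dvd_lcm_left _ _
    have hdk : orderOf k ∣ p * q := ho ▸ Nat.dvd_lcm_right _ _
    have hor : ∀ a b : ℕ, a.Prime → b.Prime → a ∣ orderOf g → b ∣ orderOf k → a ≠ b →
        ¬ b ∣ orderOf g → ¬ a ∣ orderOf k → a * b = p * q → Adj G a b := by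
      intro a b ha hb hag hbk hab hbg hak heq
      have h1 : orderOf g ∣ a := (Nat.Coprime.dvd_of_dvd_mul_right
        ((hb.coprime_iff_not_dvd.2 hbg).symm) (heq ▸ hdg))
      have h2' : orderOf k ∣ b := (Nat.Coprime.dvd_of_dvd_mul_left
        ((ha.coprime_iff_not_dvd.2 hak).symm) (heq ▸ hdk))
      have hbar : orderOf ((QuotientGroup.mk' M) g) ∣ Nat.gcd a b := Nat.dvd_gcd
        ((orderOf_map_dvd _ g).trans h1) (hgk ▸ (orderOf_map_dvd φ k).trans h2')
      rw [(Nat.coprime_primes ha hb).2 hab, Nat.dvd_one, orderOf_eq_one_iff] at hbar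
      have hgM : g ∈ M := (QuotientGroup.eq_one_iff g).1 hbar
      have haM : a ∣ Nat.card M := hag.trans (by
        rw [← Subgroup.orderOf_mk g hgM]; exact orderOf_dvd_natCard _)
      exact adj_comm.1 ((hker k (hgk ▸ hbar) b hb hbk).2 a ha haM hab)
    have hp' : p ∣ orderOf g ∨ p ∣ orderOf k := hp.dvd_mul.1 ((ho ▸ dvd_mul_right p q : p ∣ Nat.lcm (orderOf g) (orderOf k)).trans (Nat.lcm_dvd_mul _ _))
    have hq' : q ∣ orderOf g ∨ q ∣ orderOf k := hq.dvd_mul.1 ((ho ▸ dvd_mul_left q p : q ∣ Nat.lcm (orderOf g) (orderOf k)).trans (Nat.lcm_dvd_mul _ _))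
    by_cases hpg : p ∣ orderOf g
    · have hqg : ¬ q ∣ orderOf g := fun h => hg (hco.mul_dvd_of_dvd_of_dvd hpg h)
      have hqk := hq'.resolve_left hqg
      have hpk : ¬ p ∣ orderOf k := fun h => hk' (hco.mul_dvd_of_dvd_of_dvd h hqk)
      exact hor p q hp hq hpg hqk hpq hqg hpk rfl
    · have hpk := hp'.resolve_left hpg
      have hqk : ¬ q ∣ orderOf k := fun h => hk' (hco.mul_dvd_of_dvd_of_dvd hpk h)
      have hqg := hq'.resolve_right hqk
      exact adj_comm.1 (hor q p hq hp hqg hpk hpq.symm hpg hqk (mul_comm q p))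
  -- the extensions
  refine not_bounded.{u, u} fun n => ?_
  let ψ : P →* MulAut (Fin n → V) :=
    { toFun := fun x => MulEquiv.piCongrRight fun _ => θ' x.1.2
      map_one' := MulEquiv.ext fun f => funext fun i => by
        show θ' (1 : P).1.2 (f i) = f i
        rw [show (1 : P).1.2 = 1 from rfl, map_one, MulAut.one_apply]
      map_mul' := fun a b => MulEquiv.ext fun f => funext fun i => by
        show θ' (a * b : P).1.2 (f i) = θ' a.1.2 (θ' b.1.2 (f i))
        rw [show (a * b : P).1.2 = a.1.2 * b.1.2 from rfl, map_mul, MulAut.mul_apply] }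
  haveI : Finite ((Fin n → V) ⋊[ψ] P) := Finite.of_equiv _ SemidirectProduct.equivProd.symm
  have hVsq : ∀ v : Fin n → V, v ^ 2 = 1 := fun v => funext fun i => hsq (v i)
  have h2P : 2 ∣ Nat.card P := (hprime 2 Nat.prime_two).1 (h2.trans (card_subgroup_dvd_card M))
  have hfixP : ∀ (x : P) (q : ℕ), q.Prime → q ≠ 2 → orderOf x = q → ∀ v : Fin n → V, v ≠ 1 → ψ x v = v →
      ∃ y : P, orderOf y = 2 * q := by
    rintro x q hq hq2 hx v hv1 hxv
    refine hadjP 2 q ?_
    by_contra hna
    obtain ⟨⟨g, k⟩, hgk⟩ := x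
    rw [Subgroup.orderOf_mk, Prod.orderOf] at hx
    change (QuotientGroup.mk' M) g = φ k at hgk
    obtain ⟨i, hi⟩ := Function.ne_iff.1 hv1
    have hfix : θ' k (v i) = v i := congrFun hxv i
    by_cases hk1 : k = 1
    · -- then `g` lies in `M`
      rw [hk1, orderOf_one, Nat.lcm_one_right] at hx
      have hgM : g ∈ M := (QuotientGroup.eq_one_iff g).1 (by rw [hk1, map_one] at hgk; exact hgk)
      refine hna (hadj q hq hq2 ?_)
      rw [← hx, ← Subgroup.orderOf_mk g hgM]
      exact orderOf_dvd_natCard _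
    obtain ⟨l, rfl⟩ := QuotientGroup.mk'_surjective C k
    have hkq : orderOf (QuotientGroup.mk' C l) = q := by
      rcases (Nat.dvd_prime hq).1 (hx ▸ Nat.dvd_lcm_right _ _) with h | h
      · exact absurd (orderOf_eq_one_iff.1 h) hk1
      · exact h
    have hql : q ∣ orderOf l := hkq ▸ orderOf_map_dvd _ l
    set m := orderOf l / q with hm
    have hlq : (l : G) ^ q ∈ M := by
      have : l ^ q ∈ C := (QuotientGroup.eq_one_iff _).1 (by
        show QuotientGroup.mk' C (l ^ q) = 1
        rw [map_pow, ← hkq]; exact pow_orderOf_eq_one _)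
      exact (Subgroup.coe_pow _ l q) ▸ this.1
    have hqm : ¬ q ∣ m := by
      intro h
      refine hna (hadj q hq hq2 (h.trans ?_))
      have hord : orderOf (⟨(l : G) ^ q, hlq⟩ : M) = m := by
        rw [Subgroup.orderOf_mk, orderOf_pow_of_dvd hq.ne_zero (by rwa [Subgroup.orderOf_coe]), Subgroup.orderOf_coe]
      rw [← hord]
      exact orderOf_dvd_natCard _
    have hlm : orderOf (l ^ m) = q := by
      have hpos : 0 < m := Nat.div_pos (Nat.le_of_dvd (orderOf_pos l) hql) hq.pos
      rw [orderOf_pow_of_dvd hpos.ne' (Nat.div_dvd_of_dvd hql), hm,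
        Nat.div_div_self hql (orderOf_pos l).ne']
    have hfixl : θ (l ^ m) (v i) = v i := by
      rw [map_pow]
      have h1 : θ l (v i) = v i := hfix
      clear hm hqm hlm
      induction m with
      | zero => simp
      | succ j ih => rw [pow_succ, MulAut.mul_apply, h1, ih]
    exact hi (hfpf (l ^ m) q hq hq2 hna hlm (v i) hfixl)
  refine ⟨(Fin n → V) ⋊[ψ] P, inferInstance, inferInstance, ?_, fun p hp => ?_, fun p q hp hq hpq => ?_⟩
  · rw [SemidirectProduct.card, Nat.card_fun, Nat.card_fin]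
    exact lt_of_lt_of_le (lt_of_lt_of_le Nat.lt_two_pow_self (Nat.pow_le_pow_left Finite.one_lt_card n))
      (Nat.le_mul_of_pos_right _ Nat.card_pos)
  · rw [hprime p hp]; exact FpfExt.prime_dvd_iff ψ hVsq h2P p hp
  · exact Iff.trans ⟨hadjP p q, hedge p q hp hq hpq⟩ (FpfExt.edge_iff ψ hVsq hfixP hp hq hpq)

theorem even_of_nonsolvable (N : Subgroup G) (hN : ¬ Group.IsSolvable N) : 2 ∣ Nat.card N :=
  even_iff_two_dvd.1 (Nat.not_odd_iff_even.1 fun h => hN (OddOrder.feitThompson h))

theorem solvable_of_le {A B : Subgroup G} (h : A ≤ B) (hB : Group.IsSolvable B) : Group.IsSolvable A :=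
  haveI := hB
  Group.isSolvable_of_isSolvable_injective (f := Subgroup.inclusion h) (Subgroup.inclusion_injective h)

/-- Two commuting normal subgroups of even order. -/
theorem not_bounded_of_pair (A B : Subgroup G) (hcomm : ∀ a ∈ A, ∀ b ∈ B, Commute a b) (hA : 2 ∣ Nat.card A)
    (hB : 2 ∣ Nat.card B) [(A ⊔ B).Normal] : ¬ Bounded G := by
  refine not_bounded_of_joined (A ⊔ B) (hA.trans (card_dvd_of_le le_sup_left)) fun q hq hq2 hqM => ?_
  haveI : Fact q.Prime := ⟨hq⟩
  haveI : Fact (Nat.Prime 2) := ⟨Nat.prime_two⟩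
  have hd : q ∣ Nat.card A * Nat.card B := hqM.trans (by
    let f : A × B →* G := MonoidHom.noncommCoprod A.subtype B.subtype fun a b => hcomm a a.2 b b.2
    have hle : A ⊔ B ≤ f.range := sup_le (fun a ha => ⟨(⟨a, ha⟩, 1), show a * ((1 : B) : G) = a by rw [Subgroup.coe_one, mul_one]⟩)
      fun b hb => ⟨(1, ⟨b, hb⟩), show ((1 : A) : G) * b = b by rw [Subgroup.coe_one, one_mul]⟩
    rw [← Nat.card_prod]
    exact (card_dvd_of_le hle).trans (Subgroup.card_range_dvd f))
  rcases hq.dvd_mul.1 hd with h | h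
  · obtain ⟨a, ha⟩ := exists_prime_orderOf_dvd_card' q h
    obtain ⟨b, hb⟩ := exists_prime_orderOf_dvd_card' 2 hB
    exact adj_of_commute Nat.prime_two hq hq2.symm (hcomm a a.2 b b.2).symm (by rw [Subgroup.orderOf_coe, hb])
      (by rw [Subgroup.orderOf_coe, ha])
  · obtain ⟨a, ha⟩ := exists_prime_orderOf_dvd_card' q h
    obtain ⟨b, hb⟩ := exists_prime_orderOf_dvd_card' 2 hA
    exact adj_of_commute Nat.prime_two hq hq2.symm (hcomm b b.2 a a.2) (by rw [Subgroup.orderOf_coe, hb])
      (by rw [Subgroup.orderOf_coe, ha])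

/-- A minimal normal subgroup of a bounded group is not solvable. -/
theorem not_solvable_of_minimal (hG : Bounded G) {N : Subgroup G} (hN : N.Normal) (hN1 : N ≠ ⊥)
    (hmin : ∀ K : Subgroup G, K.Normal → K ≤ N → K = ⊥ ∨ K = N) : ¬ Group.IsSolvable N := by
  intro hs
  haveI := hN
  haveI := hs
  haveI : Nontrivial N := (Subgroup.nontrivial_iff_ne_bot N).2 hN1
  haveI : (commutator N).Characteristic := inferInstance
  haveI hC : ((commutator N).map N.subtype).Normal := ConjAct.normal_of_characteristic_of_normal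
  rcases hmin _ hC (Subgroup.map_subtype_le _) with h | h
  · rw [Subgroup.map_eq_bot_iff_of_injective _ N.subtype_injective] at h
    have hab : ∀ a b : N, a * b = b * a := fun a b => commutatorElement_eq_one_iff_mul_comm.1
      ((Subgroup.eq_bot_iff_forall _).1 h _ (Subgroup.commutator_mem_commutator (mem_top a) (mem_top b)))
    obtain ⟨p, hp, hd⟩ := Nat.exists_prime_and_dvd (Finite.one_lt_card (α := N)).ne'
    haveI : Fact p.Prime := ⟨hp⟩
    let Ω : Subgroup N :=
      { carrier := {x | x ^ p = 1}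
        one_mem' := one_pow p
        mul_mem' := fun {a b} ha hb => by
          show (a * b) ^ p = 1
          rw [(show Commute a b from hab a b).mul_pow, ha, hb, one_mul]
        inv_mem' := fun {a} ha => by show a⁻¹ ^ p = 1; rw [inv_pow, ha, inv_one] }
    haveI : Ω.Characteristic := Subgroup.characteristic_iff_le_comap.2 fun f x hx => by
      show f x ^ p = 1
      rw [← map_pow, show x ^ p = 1 from hx, map_one]
    haveI hΩn : (Ω.map N.subtype).Normal := ConjAct.normal_of_characteristic_of_normal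
    refine not_bounded_of_elementary (Ω.map N.subtype) hp ?_ ?_ hG
    · rintro _ ⟨x, hx, rfl⟩
      rw [← map_pow, show x ^ p = 1 from hx, map_one]
    · intro e
      obtain ⟨x, hx⟩ := exists_prime_orderOf_dvd_card' p hd
      have : x ∈ Ω := by show x ^ p = 1; rw [← hx]; exact pow_orderOf_eq_one x
      rw [Subgroup.map_eq_bot_iff_of_injective _ N.subtype_injective] at e
      rw [e, Subgroup.mem_bot] at this
      rw [this, orderOf_one] at hx
      exact hp.ne_one hx.symm
  · exact (Group.IsSolvable.commutator_lt_top_of_nontrivial N).ne (Subgroup.map_injective N.subtype_injective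
      (by rw [h, ← MonoidHom.range_eq_map, Subgroup.range_subtype]))

/-- Bounded groups are almost simple. -/
theorem almostSimple [Nontrivial G] (hG : Bounded G) : ∃ N : Subgroup G, N.Normal ∧ IsSimpleGroup N ∧
    ¬ IsMulCommutative N ∧ centralizer (N : Set G) = ⊥ := by
  classical
  obtain ⟨N, hN, -, hN1, hmin⟩ := CfsgLib.exists_minimal_normal (N := (⊤ : Subgroup G)) top_ne_bot
  haveI := hN
  have hns := not_solvable_of_minimal hG hN hN1 hmin
  haveI : Nontrivial N := (Subgroup.nontrivial_iff_ne_bot N).2 hN1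
  have hnc : ¬ IsMulCommutative N := fun h => hns
    (Group.isSolvable_of_comm fun a b => h.is_comm.comm a b)
  by_cases hsimple : IsSimpleGroup N
  · refine ⟨N, hN, hsimple, hnc, ?_⟩
    by_contra hC
    haveI : (centralizer (N : Set G)).Normal := inferInstance
    obtain ⟨N', hN', hle, hN'1, hmin'⟩ := CfsgLib.exists_minimal_normal hC
    haveI := hN'
    exact not_bounded_of_pair N N' (fun a ha b hb => (Subgroup.mem_centralizer_iff.1 (hle hb) a ha))
      (even_of_nonsolvable N hns) (even_of_nonsolvable N' (not_solvable_of_minimal hG hN' hN'1 hmin')) hG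
  -- a proper minimal normal subgroup of `N`
  exfalso
  obtain ⟨T0, hT0n, -, hT01, hT0min⟩ := CfsgLib.exists_minimal_normal (N := (⊤ : Subgroup N)) top_ne_bot
  set T := T0.map N.subtype with hT
  have hTN : T ≤ N := Subgroup.map_subtype_le _
  have hT1 : T ≠ ⊥ := fun e => hT01 ((Subgroup.map_eq_bot_iff_of_injective _ N.subtype_injective).1 e)
  -- `T` is not normal in `G`
  have hTnn : ∃ g : G, T.map (MulAut.conj g).toMonoidHom ≠ T := by
    by_contra! h
    have hTn : T.Normal := ⟨fun t ht g => by rw [← h g]; exact ⟨t, ht, rfl⟩⟩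
    rcases hmin T hTn hTN with e | e
    · exact hT1 e
    have e' : T0 = ⊤ := Subgroup.map_injective N.subtype_injective
      (by rw [← hT, e, ← MonoidHom.range_eq_map, Subgroup.range_subtype])
    exact hsimple ⟨fun K hK => e' ▸ hT0min K hK (e'.symm ▸ le_top)⟩
  have hnormal : ∀ g : G, ((T.map (MulAut.conj g).toMonoidHom).subgroupOf N).Normal := fun g => ⟨fun x hx y => by
      obtain ⟨t, ⟨t0, ht0, rfl⟩, e⟩ := hx
      refine ⟨_, ⟨⟨g⁻¹ * y * g, by simpa using hN.conj_mem (y : G) y.2 g⁻¹⟩ * t0 *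
        (⟨g⁻¹ * y * g, by simpa using hN.conj_mem (y : G) y.2 g⁻¹⟩ : N)⁻¹, hT0n.conj_mem t0 ht0 _, rfl⟩, ?_⟩
      simp only [MulEquiv.coe_toMonoidHom, MulAut.conj_apply, Subgroup.coe_subtype] at e ⊢
      simp only [Subgroup.coe_mul, Subgroup.coe_inv, ← e]
      group⟩
  have hnc' : normalClosure (T : Set G) = N := by
    rcases hmin (normalClosure (T : Set G)) normalClosure_normal (normalClosure_le_normal hTN) with e | e
    · exact absurd (le_bot_iff.1 (e ▸ subset_normalClosure : T ≤ ⊥)) hT1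
    · exact e
  have hcomm : ∀ g : G, T.map (MulAut.conj g).toMonoidHom ≠ T → ∀ a ∈ T,
      ∀ b ∈ T.map (MulAut.conj g).toMonoidHom, Commute a b := by
    intro g hg a ha b hb
    set T0' := (T.map (MulAut.conj g).toMonoidHom).subgroupOf N with hT0'
    have hle : T.map (MulAut.conj g).toMonoidHom ≤ N := by
      rintro _ ⟨t, ht, rfl⟩; exact hN.conj_mem t (hTN ht) g
    haveI hT0'n : T0'.Normal := hnormal g
    haveI := hT0n
    have hinf : T0 ⊓ T0' = ⊥ := by
      rcases hT0min (T0 ⊓ T0') inferInstance inf_le_left with e | e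
      · exact e
      exfalso
      have h1 : T ≤ T.map (MulAut.conj g).toMonoidHom := by
        rintro _ ⟨t, ht, rfl⟩
        have h' : t ∈ T0 ⊓ T0' := by rw [e]; exact ht
        exact h'.2
      exact hg (Subgroup.eq_of_le_of_card_ge h1
        (le_of_eq (Subgroup.card_map_of_injective (MulAut.conj g).injective))).symm
    obtain ⟨a0, ha0, rfl⟩ := ha
    have h := Subgroup.commute_of_normal_of_disjoint T0 T0' hT0n hT0'n (disjoint_iff.2 hinf) a0
      ⟨b, hle hb⟩ ha0 hb
    exact congrArg Subtype.val h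
  set B := N ⊓ centralizer (T : Set G) with hB
  obtain ⟨g₀, hg₀⟩ := hTnn
  have hTB : N ≤ T ⊔ B := by
    rw [← hnc']
    refine (closure_le _).2 fun x hx => ?_
    obtain ⟨t, ht, hc⟩ := Group.mem_conjugatesOfSet_iff.1 hx
    obtain ⟨g, rfl⟩ := isConj_iff.1 hc
    by_cases e : T.map (MulAut.conj g).toMonoidHom = T
    · exact Subgroup.mem_sup_left (e ▸ ⟨t, ht, rfl⟩ : g * t * g⁻¹ ∈ T)
    · exact Subgroup.mem_sup_right ⟨hN.conj_mem t (hTN ht) g, Subgroup.mem_centralizer_iff.2 fun a ha =>
        (hcomm g e a ha _ ⟨t, ht, rfl⟩).eq⟩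
  have hTns : ¬ Group.IsSolvable T := by
    intro hs
    obtain ⟨R, ⟨hRn, hRs⟩, hRmax⟩ := (Set.toFinite {R : Subgroup N | R.Normal ∧ Group.IsSolvable R}).exists_maximal
      ⟨⊥, inferInstance, inferInstance⟩
    haveI := hRn
    have hRall : ∀ K : Subgroup N, K.Normal → Group.IsSolvable K → K ≤ R := fun K hKn hKs => by
      haveI := hKn
      exact le_sup_left.trans (hRmax ⟨Subgroup.sup_normal K R, CfsgLib.isSolvable_sup_of_normal hKs hRs⟩ le_sup_right)
    have hconjR : ∀ g : G, T.map (MulAut.conj g).toMonoidHom ≤ R.map N.subtype := by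
      intro g
      set U := T.map (MulAut.conj g).toMonoidHom with hU
      have hUN : U ≤ N := by
        rintro _ ⟨t, ht, rfl⟩; exact hN.conj_mem t (hTN ht) g
      haveI : Group.IsSolvable U := haveI := hs
        Group.isSolvable_of_surjective (f := (T.equivMapOfInjective _ (MulAut.conj g).injective).toMonoidHom)
          (MulEquiv.surjective _)
      have h1 : U.subgroupOf N ≤ R := hRall _ (hnormal g) (Group.isSolvable_of_isSolvable_injective
        (f := (Subgroup.subgroupOfEquivOfLe hUN).toMonoidHom) (MulEquiv.injective _))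
      intro x hx
      exact ⟨⟨x, hUN hx⟩, h1 hx, rfl⟩
    have hNR : N ≤ R.map N.subtype := by
      refine hnc'.ge.trans ?_
      refine (closure_le _).2 fun x hx => ?_
      obtain ⟨t, ht, hc⟩ := Group.mem_conjugatesOfSet_iff.1 hx
      obtain ⟨g, rfl⟩ := isConj_iff.1 hc
      exact hconjR g ⟨t, ht, rfl⟩
    exact hns (haveI := hRs; solvable_of_le hNR (Group.isSolvable_of_surjective
      (f := (R.equivMapOfInjective N.subtype N.subtype_injective).toMonoidHom) (MulEquiv.surjective _)))
  have hBns : 2 ∣ Nat.card B := by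
    refine (even_of_nonsolvable _ fun hs => hTns ?_).trans (card_dvd_of_le (show T.map (MulAut.conj g₀).toMonoidHom ≤ B from ?_))
    · haveI := hs
      exact Group.isSolvable_of_isSolvable_injective
        (f := (T.equivMapOfInjective (MulAut.conj g₀).toMonoidHom (MulAut.conj g₀).injective).toMonoidHom)
        (MulEquiv.injective _)
    · rintro _ ⟨t, ht, rfl⟩
      exact ⟨hN.conj_mem t (hTN ht) g₀, Subgroup.mem_centralizer_iff.2 fun a ha =>
        (hcomm g₀ hg₀ a ha _ ⟨t, ht, rfl⟩).eq⟩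
  have hsup : T ⊔ B = N := le_antisymm (sup_le hTN inf_le_left) hTB
  haveI : (T ⊔ B).Normal := hsup.symm ▸ hN
  exact not_bounded_of_pair T B (fun a ha b hb => Subgroup.mem_centralizer_iff.1 hb.2 a ha)
    (even_of_nonsolvable T hTns) hBns hG

/-- The statement for twins. -/
theorem bounded_of_sameGraph {H : Type} [Group H] [Finite H] (hG : Bounded G) (h : SameGraph G H) : Bounded H := by
  obtain ⟨n, hn⟩ := hG
  refine ⟨n, fun K _ _ hK => hn K ⟨fun p hp => (h.1 p hp).trans (hK.1 p hp), fun p q hp hq hpq =>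
    (h.2 p q hp hq hpq).trans (hK.2 p q hp hq hpq)⟩⟩

end CfsgLib.PrimeGraphBdd
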