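import Mathlib
import Cfsg.Agent.Lib.PrimeGraphBdd.Basic
import Cfsg.Agent.Lib.Frobenius.Complement

/-!
Tools: parts of nilpotent normal subgroups, a transfer lemma, and cyclicity of Sylow subgroups of a
quotient whose elements centralise nothing.
-/

set_option autoImplicit false

namespace CfsgLib.PrimeGraphBdd

open Subgroup

universe u

variable {L : Type u} [Group L]

theorem closure_normal_of_conj {T : Set L} (h : ∀ g : L, ∀ x ∈ T, g * x * g⁻¹ ∈ T) : (closure T).Normal := by
  refine ⟨fun n hn g => ?_⟩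
  induction hn using closure_induction with
  | mem x hx => exact subset_closure (h g x hx)
  | one => simp
  | mul x y _ _ hx hy => simpa [mul_assoc] using mul_mem hx hy
  | inv x _ hx => simpa [mul_assoc] using inv_mem hx

/-- The elements of `D` of prime power order for primes in `π`. -/
def part (D : Subgroup L) (π : ℕ → Prop) : Subgroup L :=
  closure {d | d ∈ D ∧ ∃ s j : ℕ, π s ∧ s.Prime ∧ d ^ s ^ j = 1}

theorem part_le (D : Subgroup L) (π : ℕ → Prop) : part D π ≤ D :=
  (closure_le D).2 fun _ hd => hd.1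

theorem mem_part {D : Subgroup L} {π : ℕ → Prop} {d : L} (hd : d ∈ D) {s j : ℕ} (hπ : π s) (hs : s.Prime)
    (h : d ^ s ^ j = 1) : d ∈ part D π := subset_closure ⟨hd, s, j, hπ, hs, h⟩

theorem part_normal (D : Subgroup L) [D.Normal] (π : ℕ → Prop) : (part D π).Normal :=
  closure_normal_of_conj fun g x ⟨hx, s, j, hπ, hs, h⟩ =>
    ⟨Normal.conj_mem ‹_› x hx g, s, j, hπ, hs, by rw [conj_pow, h, mul_one, mul_inv_cancel]⟩

variable [Finite L]

theorem part_isPGroup (D : Subgroup L) [Group.IsNilpotent D] {s : ℕ} (hs : s.Prime) :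
    IsPGroup s (part D (· = s)) := by
  haveI : Fact s.Prime := ⟨hs⟩
  obtain ⟨P⟩ : Nonempty (Sylow s D) := inferInstance
  refine IsPGroup.to_le (K := (P : Subgroup D).map D.subtype) (P.isPGroup'.map _) ?_
  refine (closure_le _).2 ?_
  rintro d ⟨hd, s', j, e, -, h⟩
  rw [show s' = s from e] at h
  refine ⟨⟨d, hd⟩, ?_, rfl⟩
  have hz : IsPGroup s (zpowers (⟨d, hd⟩ : D)) := by
    obtain ⟨i, -, hi⟩ := (Nat.dvd_prime_pow hs).1 (orderOf_dvd_of_pow_eq_one h)
    exact IsPGroup.of_card (n := i) (by rw [Nat.card_zpowers, ← Subgroup.orderOf_coe, hi])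
  obtain ⟨Q, hQ⟩ := hz.exists_le_sylow
  haveI := Sylow.unique_of_normal P inferInstance
  rw [Subsingleton.elim P Q]
  exact hQ (mem_zpowers _)

theorem part_dvd (D : Subgroup L) [D.Normal] [Group.IsNilpotent D] (π : ℕ → Prop) {t : ℕ} (ht : t.Prime)
    (hdvd : t ∣ Nat.card (part D π)) : π t := by
  classical
  have key : ∀ S : Finset ℕ, (∀ s ∈ S, s.Prime) → ∀ t : ℕ, t.Prime →
      t ∣ Nat.card ↥(S.sup fun s => part D (· = s)) → t ∈ S := by
    intro S
    induction S using Finset.induction_on with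
    | empty =>
      intro _ t ht h
      rw [Finset.sup_empty, Subgroup.card_bot, Nat.dvd_one] at h
      exact absurd h ht.ne_one
    | insert s S hsS ih =>
      intro hS t ht h
      rw [Finset.sup_insert] at h
      haveI := part_normal D (· = s)
      have h2 : t ∣ Nat.card (part D (· = s)) * Nat.card ↥(S.sup fun s => part D (· = s)) := by
        refine h.trans ?_
        set A := part D (· = s)
        set C := S.sup fun s => part D (· = s)
        have hrel : A.relIndex (A ⊔ C) = A.relIndex C := by rw [sup_comm, Subgroup.relIndex_sup_right]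
        have h4 : Nat.card ↥(A ⊔ C) = Nat.card A * A.relIndex (A ⊔ C) := by
          rw [← Subgroup.relIndex_bot_left A, ← Subgroup.relIndex_bot_left (A ⊔ C),
            Subgroup.relIndex_mul_relIndex _ _ _ bot_le le_sup_left]
        rw [h4, hrel]
        exact mul_dvd_mul_left _ (Subgroup.relIndex_dvd_card A C)
      rcases ht.dvd_mul.1 h2 with h' | h'
      · haveI : Fact s.Prime := ⟨hS s (Finset.mem_insert_self s S)⟩
        obtain ⟨n, hn⟩ := (part_isPGroup D (hS s (Finset.mem_insert_self s S))).exists_card_eq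
        rw [hn] at h'
        rw [(Nat.prime_dvd_prime_iff_eq ht Fact.out).1 (ht.dvd_of_dvd_pow h')]
        exact Finset.mem_insert_self s S
      · exact Finset.mem_insert_of_mem (ih (fun x hx => hS x (Finset.mem_insert_of_mem hx)) t ht h')
  set S := (Nat.card D).primeFactors.filter π with hS
  have hle : part D π ≤ S.sup fun s => part D (· = s) := by
    refine (closure_le _).2 ?_
    rintro d ⟨hd, s, j, hπ, hs, h⟩
    by_cases hd1 : d = 1
    · rw [hd1]; exact one_mem _
    have hsD : s ∈ S := by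
      obtain ⟨i, -, hi⟩ := (Nat.dvd_prime_pow hs).1 (orderOf_dvd_of_pow_eq_one h)
      have hi0 : i ≠ 0 := fun e => hd1 (orderOf_eq_one_iff.1 (by rw [hi, e, pow_zero]))
      rw [hS, Finset.mem_filter, Nat.mem_primeFactors]
      refine ⟨⟨hs, ?_, Nat.card_pos.ne'⟩, hπ⟩
      exact (hi ▸ dvd_pow_self s hi0 : s ∣ orderOf d).trans
        (by rw [← Subgroup.orderOf_mk d hd]; exact orderOf_dvd_natCard _)
    exact Finset.le_sup (f := fun s => part D (· = s)) hsD (mem_part hd rfl hs h)
  have := key S (fun s hs => Nat.prime_of_mem_primeFactors (Finset.mem_filter.1 hs).1) t ht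
    (hdvd.trans (card_dvd_of_le hle))
  exact (Finset.mem_filter.1 this).2

/-- If every prime divisor of `orderOf a` kills a proper power, the image is trivial. -/
theorem eq_one_of_parts {L' : Type*} [Group L'] (f : L →* L') (a : L)
    (h : ∀ s : ℕ, s.Prime → s ∣ orderOf a → f (a ^ (orderOf a / s ^ (orderOf a).factorization s)) = 1) :
    f a = 1 := by
  by_contra hne
  obtain ⟨s, hs, hdvd⟩ := Nat.exists_prime_and_dvd (fun e => hne (orderOf_eq_one_iff.1 e) : orderOf (f a) ≠ 1)
  have hsa : s ∣ orderOf a := hdvd.trans (orderOf_map_dvd f a)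
  have h1 : orderOf (f a) ∣ orderOf a / s ^ (orderOf a).factorization s :=
    orderOf_dvd_of_pow_eq_one (by rw [← map_pow]; exact h s hs hsa)
  exact Nat.not_dvd_ordCompl hs (orderOf_pos a).ne' (hdvd.trans h1)

theorem pow_part (a : L) (s : ℕ) :
    (a ^ (orderOf a / s ^ (orderOf a).factorization s)) ^ s ^ (orderOf a).factorization s = 1 := by
  rw [← pow_mul, Nat.div_mul_cancel (Nat.ordProj_dvd _ _), pow_orderOf_eq_one]

/-- Transfer into an abelian Sylow subgroup: a central element of `s`-power order is trivial when the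
group is generated by elements of order prime to `s`. -/
theorem central_eq_one {A : Type u} [Group A] [Finite A] {s : ℕ} [Fact s.Prime] (T : Sylow s A)
    (hT : ∀ x ∈ (T : Subgroup A), ∀ y ∈ (T : Subgroup A), x * y = y * x) {X : Set A} (hX : closure X = ⊤)
    (hXs : ∀ x ∈ X, ¬ s ∣ orderOf x) {z : A} (hz : ∀ a, a * z = z * a) (hzT : z ∈ (T : Subgroup A)) :
    z = 1 := by
  haveI : IsMulCommutative (T : Subgroup A) := ⟨⟨fun a b => Subtype.ext (hT a a.2 b b.2)⟩⟩
  letI : CommGroup (T : Subgroup A) :=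
    { (inferInstance : Group (T : Subgroup A)) with mul_comm := fun a b => Subtype.ext (hT a a.2 b b.2) }
  let τ : A →* (T : Subgroup A) := MonoidHom.transfer (MonoidHom.id (T : Subgroup A))
  have hτ : τ = 1 := by
    refine MonoidHom.eq_of_eqOn_dense hX fun x hx => ?_
    rw [MonoidHom.one_apply, ← orderOf_eq_one_iff]
    by_contra hne
    obtain ⟨i, hi⟩ := IsPGroup.iff_orderOf.1 T.isPGroup' (τ x)
    have hi0 : i ≠ 0 := fun e => hne (by rw [hi, e, pow_zero])
    exact hXs x hx ((hi ▸ dvd_pow_self s hi0 : s ∣ orderOf (τ x)).trans (orderOf_map_dvd τ x))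
  have key : ∀ (n : ℕ) (g₀ : A), g₀⁻¹ * z ^ n * g₀ ∈ (T : Subgroup A) → g₀⁻¹ * z ^ n * g₀ = z ^ n := by
    intro n g₀ _
    rw [mul_assoc, ← ((show Commute g₀ z from hz g₀).pow_right n).eq, inv_mul_cancel_left]
  have h := MonoidHom.transfer_eq_pow (MonoidHom.id (T : Subgroup A)) z key
  rw [show MonoidHom.transfer (MonoidHom.id (T : Subgroup A)) = τ from rfl, hτ, MonoidHom.one_apply,
    MonoidHom.id_apply] at h
  have hpow : z ^ (T : Subgroup A).index = 1 := congrArg Subtype.val h.symm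
  obtain ⟨i, hi⟩ := IsPGroup.iff_orderOf.1 T.isPGroup' ⟨z, hzT⟩
  rw [Subgroup.orderOf_mk] at hi
  have h2 := orderOf_dvd_of_pow_eq_one hpow
  rw [← orderOf_eq_one_iff]
  by_contra hne
  have hi0 : i ≠ 0 := fun e => hne (by rw [hi, e, pow_zero])
  exact T.not_dvd_index ((hi ▸ dvd_pow_self s hi0 : s ∣ orderOf z).trans h2)

variable {G : Type u} [Group G] [Finite G]

/-- If no element of order `s * q` exists and `q` divides the order of `M`, an `s`-subgroup of
`G / M` is cyclic. -/
theorem isCyclic_quot (M : Subgroup G) [M.Normal] {s q : ℕ} [Fact s.Prime] [Fact q.Prime] (hs2 : s ≠ 2)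
    (hsq : s ≠ q) (hqM : q ∣ Nat.card M) (hno : ∀ g : G, orderOf g ≠ s * q) {E : Subgroup (G ⧸ M)}
    (hE : IsPGroup s E) : IsCyclic E := by
  obtain ⟨Q⟩ : Nonempty (Sylow q M) := inferInstance
  set Q' := (Q : Subgroup M).map M.subtype with hQ'
  set N := normalizer (Q' : Set G) with hN
  have htop : N ⊔ M = ⊤ := Sylow.normalizer_sup_eq_top Q
  set π : N →* G ⧸ M := (QuotientGroup.mk' M).comp N.subtype with hπ
  have hπs : ∀ e : G ⧸ M, ∃ n : N, π n = e := by
    intro e
    obtain ⟨g, rfl⟩ := QuotientGroup.mk'_surjective M e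
    obtain ⟨a, ha, b, hb, rfl⟩ := Subgroup.mem_sup_of_normal_right.1 (show g ∈ N ⊔ M by rw [htop]; trivial)
    exact ⟨⟨a, ha⟩, by simp [hπ, (QuotientGroup.eq_one_iff b).2 hb]⟩
  obtain ⟨T⟩ : Nonempty (Sylow s (E.comap π)) := inferInstance
  let ψ : E.comap π →* E := π.subgroupComap E
  have hψ : Function.Surjective ψ := fun e => by
    obtain ⟨n, hn⟩ := hπs e.1
    exact ⟨⟨n, show π n ∈ E by rw [hn]; exact e.2⟩, Subtype.ext hn⟩
  have hTE : ((T.mapSurjective hψ : Sylow s E) : Subgroup E) = ⊤ :=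
    eq_top_iff.2 ((Sylow.is_maximal' (T.mapSurjective hψ) (hE.of_equiv Subgroup.topEquiv.symm) le_top).le)
  set T' := (T : Subgroup (E.comap π)).map (N.subtype.comp (E.comap π).subtype) with hT'
  have hT'p : IsPGroup s T' := T.isPGroup'.map _
  -- a non-trivial abelian normalised `q`-group
  have hQ1 : Q' ≠ ⊥ := fun e => Sylow.ne_bot_of_dvd_card Q hqM (Subgroup.map_eq_bot_iff_of_injective
    (Q : Subgroup M) M.subtype_injective |>.1 e)
  set V := (center Q').map Q'.subtype with hV
  haveI : Nontrivial Q' := (Subgroup.nontrivial_iff_ne_bot _).2 hQ1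
  haveI := (Q.isPGroup'.map M.subtype).center_nontrivial
  have hV1 : V ≠ ⊥ := fun e => (Subgroup.nontrivial_iff_ne_bot _).1 inferInstance
    ((Subgroup.map_eq_bot_iff_of_injective (center Q') Q'.subtype_injective).1 e)
  haveI : IsMulCommutative V := inferInstance
  have hT'N : T' ≤ normalizer (V : Set G) := by
    rintro _ ⟨x, -, rfl⟩
    set g : G := (N.subtype.comp (E.comap π).subtype) x with hg
    have hgN : g ∈ normalizer (Q' : Set G) := (x.1).2
    refine Subgroup.mem_normalizer_iff.2 fun v => ?_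
    have key : ∀ g ∈ normalizer (Q' : Set G), ∀ v ∈ V, g * v * g⁻¹ ∈ V := by
      rintro g hg _ ⟨⟨a, ha⟩, hac, rfl⟩
      refine ⟨⟨g * a * g⁻¹, (Subgroup.mem_normalizer_iff.1 hg a).1 ha⟩, ?_, rfl⟩
      refine Subgroup.mem_center_iff.2 fun b => Subtype.ext ?_
      have hb : g⁻¹ * b * g ∈ Q' := by
        have := (Subgroup.mem_normalizer_iff.1 (inv_mem hg) (b : G)).1 b.2
        simpa using this
      have := congrArg Subtype.val (Subgroup.mem_center_iff.1 hac ⟨_, hb⟩)
      simp only [Subgroup.coe_mul] at this ⊢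
      calc (b : G) * (g * a * g⁻¹) = g * (g⁻¹ * b * g * a) * g⁻¹ := by group
        _ = g * (a * (g⁻¹ * b * g)) * g⁻¹ := by rw [this]
        _ = g * a * g⁻¹ * b := by group
    refine ⟨key g hgN v, fun h => ?_⟩
    have := key g⁻¹ (inv_mem hgN) _ h
    simpa [mul_assoc] using this
  have hfpf : ∀ x ∈ T', x ≠ 1 → V ⊓ centralizer {x} = ⊥ := by
    intro x hx hx1
    rw [eq_bot_iff]
    intro v hv
    obtain ⟨hvV, hvc⟩ := hv
    rw [mem_bot]
    by_contra hv1
    obtain ⟨i, hi⟩ := IsPGroup.iff_orderOf.1 hT'p ⟨x, hx⟩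
    obtain ⟨j, hj⟩ := IsPGroup.iff_orderOf.1 ((Q.isPGroup'.map M.subtype).to_le (Subgroup.map_subtype_le _)) (⟨v, hvV⟩ : V)
    rw [Subgroup.orderOf_mk] at hi hj
    have hi0 : i ≠ 0 := fun e => hx1 (orderOf_eq_one_iff.1 (by rw [hi, e, pow_zero]))
    have hj0 : j ≠ 0 := fun e => hv1 (orderOf_eq_one_iff.1 (by rw [hj, e, pow_zero]))
    have hc : Commute x v := (Subgroup.mem_centralizer_singleton_iff.1 hvc).symm
    have hcop : (orderOf x).Coprime (orderOf v) := by
      rw [hi, hj]; exact Nat.Coprime.pow _ _ ((Nat.coprime_primes Fact.out Fact.out).2 hsq)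
    obtain ⟨g, hg⟩ := adj_of_dvd (g := x * v) (p := s) (q := q) (by
      rw [hc.orderOf_mul_eq_mul_orderOf_of_coprime hcop, hi, hj]
      exact mul_dvd_mul (dvd_pow_self s hi0) (dvd_pow_self q hj0))
    exact hno g hg
  haveI : IsCyclic T' := CfsgLib.Frob.isCyclic_of_uniq_odd hs2 hT'p (CfsgLib.Frob.uniqSub_of_fpf hV1 hT'N hfpf hT'p)
  haveI : IsCyclic (T : Subgroup (E.comap π)) := isCyclic_of_injective
    ((Subgroup.equivMapOfInjective _ (N.subtype.comp (E.comap π).subtype)
      (N.subtype_injective.comp (E.comap π).subtype_injective)).toMonoidHom) (MulEquiv.injective _)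
  let f : (T : Subgroup (E.comap π)) →* E := ψ.comp (T : Subgroup (E.comap π)).subtype
  refine isCyclic_of_surjective f fun e => ?_
  have : e ∈ ((T.mapSurjective hψ : Sylow s E) : Subgroup E) := hTE ▸ mem_top e
  obtain ⟨t, ht, rfl⟩ := this
  exact ⟨⟨t, ht⟩, rfl⟩

end CfsgLib.PrimeGraphBdd
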